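import Mathlib
import Cfsg.Prelude.Def_ChevG2
import Cfsg.Agent.Lib.CosetTable.Sound
import Cfsg.Agent.Lib.CosetTable.SuzG2Mat.Data

/-!
Checked 14 by 14 matrices over a field with four elements, coded with two bits per entry
(`0, 1, 2, 3` for `0, 1, w, 1 + w`), and the root elements of `chevG2` among them.
-/

namespace Cfsg.Agent.Lib.CosetTable.SuzG2Mat

open Cfsg.Lie

/-- coordinates of the adjoint module -/
abbrev Idx : Type := chevG2.Idx

/-- position of a coordinate -/
def pos : Idx → ℕ
  | .inl i => i
  | .inr r => 2 + r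

/-- entry of a coded matrix -/
def ent (a i j : ℕ) : ℕ := (a >>> (2 * (14 * i + j))) &&& 3

/-- the product of two coded scalars -/
def tmul (a b : ℕ) : ℕ := (0x9c78e400 >>> (2 * (4 * a + b))) &&& 3

/-- the power of a coded scalar -/
def tpow (t : ℕ) : ℕ → ℕ
  | 0 => 1
  | n + 1 => tmul (tpow t n) t

/-- the code of an integer -/
def par (z : ℤ) : ℕ := (z % 2).toNat

/-- row times column, over the first `n` positions -/
def dot (a b i j : ℕ) : ℕ → ℕ
  | 0 => 0
  | n + 1 => (dot a b i j n) ^^^ (tmul (ent a i n) (ent b n j))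

/-- `c` codes the product of `a` and `b` -/
noncomputable def mulOK (a b c : ℕ) : Bool :=
  force a fun a => force b fun b => force c fun c =>
    rangeAll (fun i => rangeAll (fun j => Nat.beq (dot a b i j 14) (ent c i j)) 14 0) 14 0

/-- running products of the word `w`, last letter leftmost -/
noncomputable def chainOK (ms : List ℕ) (tgt : ℕ) : List ℕ → List ℕ → ℕ → Bool
  | [], [], cur => Nat.beq cur tgt
  | g :: w, c :: cs, cur => mulOK (ms.getD g 0) cur c && chainOK ms tgt w cs c
  | _, _, _ => false

/-- the code of an entry of the root element `x_r(t)` -/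
def xEnt (r : Fin chevG2.nroots) (t : ℕ) (row col : Idx) : ℕ :=
  match col with
  | Sum.inl i =>
    (match row with
     | Sum.inl i' => if i' = i then 1 else 0
     | Sum.inr u =>
       if u = r then tmul (par ((chevG2.cartanSR.getD i.val #[]).getD r.val 0)) t else 0)
  | Sum.inr s =>
    if s = r then (match row with | Sum.inr u => if u = r then 1 else 0 | Sum.inl _ => 0)
    else if s.val = chevG2.negIdx.getD r.val 0 then
      (match row with
       | Sum.inl i => tmul (par ((chevG2.coroot.getD r.val #[]).getD i.val 0)) t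
       | Sum.inr u => if u = s then 1 else if u = r then tpow t 2 else 0)
    else
      (match row with
       | Sum.inl _ => 0
       | Sum.inr u => (if u = s then 1 else 0) ^^^
           ((chevG2.chainCoeff r.val s.val u.val).foldr
             (fun km acc => tmul (par km.2) (tpow t km.1) ^^^ acc) 0))

/-- `a` codes the root element `x_r(t)` -/
def xOK (r : Fin chevG2.nroots) (t a : ℕ) : Prop :=
  ∀ row col : Idx, ent a (pos row) (pos col) = xEnt r t row col

instance (r : Fin chevG2.nroots) (t a : ℕ) : Decidable (xOK r t a) :=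
  inferInstanceAs (Decidable (∀ row col : Idx, ent a (pos row) (pos col) = xEnt r t row col))

section
variable {K : Type} [Field K] (w : K)

/-- the scalar with a given code -/
def dec : ℕ → K
  | 0 => 0
  | 1 => 1
  | 2 => w
  | _ => 1 + w

/-- the coded matrix -/
def toMat (a : ℕ) : Matrix Idx Idx K := Matrix.of fun i j => dec w (ent a (pos i) (pos j))

theorem ent_lt (a i j : ℕ) : ent a i j < 4 := by
  have : ent a i j ≤ 3 := Nat.and_le_right
  omega

theorem tmul_lt (a b : ℕ) : tmul a b < 4 := by
  have : tmul a b ≤ 3 := Nat.and_le_right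
  omega

theorem tpow_lt (t : ℕ) : ∀ n, tpow t n < 4
  | 0 => by simp [tpow]
  | _ + 1 => tmul_lt _ _

theorem par_lt (z : ℤ) : par z < 4 := by
  unfold par
  omega

theorem xor_lt {a b : ℕ} (ha : a < 4) (hb : b < 4) : a ^^^ b < 4 :=
  Nat.xor_lt_two_pow (n := 2) ha hb

theorem pos_lt (i : Idx) : pos i < 14 := by
  rcases i with i | i
  · have : i.val < 2 := i.isLt
    simp only [pos]; omega
  · have : i.val < 12 := i.isLt
    simp only [pos]; omega

variable {w} [CharP K 2] (hw : w * w = 1 + w)

include hw in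
theorem dec_tmul {a b : ℕ} (ha : a < 4) (hb : b < 4) : dec w (tmul a b) = dec w a * dec w b := by
  have h2 : (1 : K) + 1 = 0 := CharTwo.add_self_eq_zero 1
  have hx : ∀ x : K, x + x = 0 := fun x => CharTwo.add_self_eq_zero x
  interval_cases a <;> interval_cases b <;> simp [tmul, dec] <;>
    first | done | linear_combination (norm := (ring_nf <;> simp [CharTwo.two_eq_zero])) (-1 : K) * hw

theorem dec_xor {a b : ℕ} (ha : a < 4) (hb : b < 4) :
    dec w (a ^^^ b) = dec w a + dec w b := by
  have h2 : (2 : K) = 0 := CharTwo.two_eq_zero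
  interval_cases a <;> interval_cases b <;> simp [dec] <;>
    first
      | done
      | linear_combination (norm := (ring_nf <;> simp [h2])) (0 : K) * h2

theorem dot_lt (a b i j : ℕ) : ∀ n, dot a b i j n < 4
  | 0 => by simp [dot]
  | _ + 1 => xor_lt (dot_lt a b i j _) (tmul_lt _ _)

include hw in
theorem dec_dot (a b i j : ℕ) : ∀ n, dec w (dot a b i j n) =
    ∑ m ∈ Finset.range n, dec w (ent a i m) * dec w (ent b m j)
  | 0 => by simp [dot, dec]
  | n + 1 => by
    rw [dot, dec_xor (dot_lt a b i j n) (tmul_lt _ _), dec_dot a b i j n,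
      dec_tmul hw (ent_lt _ _ _) (ent_lt _ _ _), Finset.sum_range_succ]

theorem sum_idx (f : ℕ → K) : ∑ i : Idx, f (pos i) = ∑ m ∈ Finset.range 14, f m := by
  rw [Fintype.sum_sum_type]
  show (∑ i : Fin 2, f i) + ∑ r : Fin 12, f (2 + r) = _
  rw [Finset.sum_range_add (n := 2) (m := 12), Fin.sum_univ_eq_sum_range (fun m => f m),
    Fin.sum_univ_eq_sum_range (fun m => f (2 + m))]

include hw in
theorem toMat_mul {a b c : ℕ} (h : mulOK a b c = true) :
    toMat w a * toMat w b = toMat w c := by
  simp only [mulOK, force_eq] at h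
  ext i j
  have hi := rangeAll_spec h (pos i) (Nat.zero_le _) (by have := pos_lt i; omega)
  have hj := beq_iff.mp (rangeAll_spec hi (pos j) (Nat.zero_le _) (by have := pos_lt j; omega))
  rw [Matrix.mul_apply]
  simp only [toMat, Matrix.of_apply]
  rw [sum_idx (fun m => dec w (ent a (pos i) m) * dec w (ent b m (pos j))),
    ← dec_dot hw, hj]

theorem toMat_one : toMat w oneCode = 1 := by
  have h : ∀ i j : Idx, ent oneCode (pos i) (pos j) = if i = j then 1 else 0 := by decide +kernel
  ext i j
  simp only [toMat, Matrix.of_apply, h, Matrix.one_apply]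
  split_ifs <;> simp [dec]

theorem neg_eq (x : K) : -x = x := CharTwo.neg_eq x

theorem dec_par (z : ℤ) : dec w (par z) = (z : K) := by
  have h : (z : K) = ((z % 2 : ℤ) : K) := by
    rw [Int.emod_def, Int.cast_sub, Int.cast_mul]
    have : ((2 : ℤ) : K) = 0 := by
      exact_mod_cast CharP.cast_eq_zero K 2
    rw [this, zero_mul, sub_zero]
  rw [h]
  rcases Int.emod_two_eq_zero_or_one z with e | e <;> simp [par, e, dec]

include hw in
theorem dec_tpow {t : ℕ} (ht : t < 4) : ∀ n, dec w (tpow t n) = dec w t ^ n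
  | 0 => by simp [tpow, dec]
  | n + 1 => by rw [tpow, dec_tmul hw (tpow_lt t n) ht, dec_tpow ht n, pow_succ]

theorem fold_lt (t : ℕ) : ∀ l : List (ℕ × ℤ),
    l.foldr (fun km acc => tmul (par km.2) (tpow t km.1) ^^^ acc) 0 < 4
  | [] => by simp
  | _ :: l => xor_lt (tmul_lt _ _) (fold_lt t l)

include hw in
theorem dec_fold {t : ℕ} (ht : t < 4) : ∀ l : List (ℕ × ℤ),
    dec w (l.foldr (fun km acc => tmul (par km.2) (tpow t km.1) ^^^ acc) 0) =
      (l.map fun km => ((km.2 : ℤ) : K) * dec w t ^ km.1).sum
  | [] => by simp [dec]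
  | km :: l => by
    rw [List.foldr_cons, dec_xor (tmul_lt _ _) (fold_lt t l),
      dec_tmul hw (par_lt _) (tpow_lt t _), dec_par, dec_tpow hw ht, dec_fold ht l,
      List.map_cons, List.sum_cons]

include hw in
theorem xMat_eq {r : Fin chevG2.nroots} {t a : ℕ} (ht : t < 4) (h : xOK r t a) :
    toMat w a = chevG2.xMat K r (dec w t) := by
  ext row col
  simp only [toMat, Matrix.of_apply, h row col, ChevalleyDatum.xMat, xEnt]
  have h0 : dec w 0 = 0 := rfl
  have h1 : dec w 1 = 1 := rfl
  rcases col with i | s <;> rcases row with i' | u <;> simp only <;> split_ifs <;>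
    simp [h0, h1, dec_tmul hw (par_lt _) ht, dec_par, dec_tpow hw ht, dec_fold hw ht,
      dec_xor (show (1 : ℕ) < 4 by norm_num) (fold_lt t _), neg_eq]

include hw in
theorem chainOK_spec {ms : List ℕ} {tgt : ℕ} : ∀ {v cs : List ℕ} {cur : ℕ},
    chainOK ms tgt v cs cur = true →
    ∀ {M : Type} [Monoid M] (φ : M →* Matrix Idx Idx K) (p : ℕ → M),
      (∀ g ∈ v, φ (p g) = toMat w (ms.getD g 0)) → ∀ x : M, φ x = toMat w cur →
        φ ((v.reverse.map p).prod * x) = toMat w tgt
  | [], [], cur, h, M, _, φ, p, _, x, hx => by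
    simp only [chainOK, beq_iff] at h
    simp [hx, h]
  | g :: v, c :: cs, cur, h, M, _, φ, p, hp, x, hx => by
    simp only [chainOK, Bool.and_eq_true] at h
    have hc : φ (p g * x) = toMat w c := by
      rw [map_mul, hp g (by simp), hx, toMat_mul hw h.1]
    have := chainOK_spec h.2 φ p (fun a ha => hp a (List.mem_cons_of_mem _ ha)) (p g * x) hc
    simpa [mul_assoc] using this
  | [], _ :: _, _, h, _, _, _, _, _, _, _ => by simp [chainOK] at h
  | _ :: _, [], _, h, _, _, _, _, _, _, _ => by simp [chainOK] at h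

end

end Cfsg.Agent.Lib.CosetTable.SuzG2Mat
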